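import Groth.Agent.Lib.NodalSing14.Alg
import Groth.Agent.Lib.Nodal27.Families
import Groth.Agent.Lib.FitSmooth14.Field
import Groth.Agent.Lib.Omega12.Universal
import Groth.Agent.Lib.EtBase.Unramified
import Groth.Prelude.Def_Fitting

/-!
# Unramifiedness of the singular locus of a nodal family
-/

set_option autoImplicit false
set_option linter.style.haveILetI false
set_option backward.isDefEq.respectTransparency.types false

universe u

open CategoryTheory CategoryTheory.Limits AlgebraicGeometry
open scoped TensorProduct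

noncomputable section

namespace Groth.Agent.NodalSing14

theorem formallyUnramified_scheme_of_geometric {Z B : Scheme.{u}} (g : Z ⟶ B) [LocallyOfFiniteType g]
    (h : ∀ (L : Type u) [Field L] [IsAlgClosed L] (t : Spec (CommRingCat.of L) ⟶ B),
      FormallyUnramified (pullback.snd g t)) : FormallyUnramified g := by
  rw [HasRingHomProperty.iff_appLE (P := @FormallyUnramified)]
  rintro ⟨V, hV⟩ ⟨U, hU⟩ e
  algebraize [(g.appLE V U e).hom]
  haveI : Algebra.FiniteType Γ(B, V) Γ(Z, U) := g.finiteType_appLE hV hU e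
  refine RingHom.formallyUnramified_algebraMap.2 (formallyUnramified_of_geometric ?_)
  intro L _ _ _
  let T := L ⊗[Γ(B, V)] Γ(Z, U)
  let φ : CommRingCat.of Γ(B, V) ⟶ CommRingCat.of Γ(Z, U) := CommRingCat.ofHom (algebraMap Γ(B, V) Γ(Z, U))
  let ψ : CommRingCat.of Γ(B, V) ⟶ CommRingCat.of L := CommRingCat.ofHom (algebraMap Γ(B, V) L)
  let pr : Spec (CommRingCat.of T) ⟶ Spec (CommRingCat.of Γ(Z, U)) :=
    Spec.map (CommRingCat.ofHom (Algebra.TensorProduct.includeRight (R := Γ(B, V)) (A := L) (B := Γ(Z, U))).toRingHom)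
  let q : Spec (CommRingCat.of T) ⟶ Spec (CommRingCat.of L) := Spec.map (CommRingCat.ofHom (algebraMap L T))
  have sq : IsPullback pr q (Spec.map φ) (Spec.map ψ) :=
    (AlgebraicGeometry.isPullback_SpecMap_of_isPushout _ _ _ _
      (CommRingCat.isPushout_tensorProduct Γ(B, V) L Γ(Z, U))).flip
  have hφ : Spec.map φ ≫ hV.fromSpec = hU.fromSpec ≫ g := IsAffineOpen.SpecMap_appLE_fromSpec g hV hU e
  let t : Spec (CommRingCat.of L) ⟶ B := Spec.map ψ ≫ hV.fromSpec
  have sq' : IsPullback pr q (hU.fromSpec ≫ g) t := by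
    rw [← hφ]
    refine IsPullback.mk' (by rw [sq.w_assoc]) (fun _ _ _ h1 h2 => sq.hom_ext h1 h2) fun T' a b hab => ?_
    have hab' : a ≫ Spec.map φ = b ≫ Spec.map ψ :=
      (cancel_mono hV.fromSpec).1 (by simpa only [Category.assoc, t] using hab)
    exact ⟨sq.lift a b hab', sq.lift_fst _ _ _, sq.lift_snd _ _ _⟩
  let j : Spec (CommRingCat.of T) ⟶ pullback g t :=
    pullback.lift (pr ≫ hU.fromSpec) q (by rw [Category.assoc]; exact sq'.w)
  have top : IsPullback pr j hU.fromSpec (pullback.fst g t) := by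
    refine IsPullback.of_bot ?_ (pullback.lift_fst _ _ _).symm (IsPullback.of_hasPullback g t)
    rw [pullback.lift_snd]
    exact sq'
  haveI : IsOpenImmersion j := MorphismProperty.of_isPullback top.flip.flip inferInstance
  haveI := h L t
  have hq : FormallyUnramified q := by
    rw [show q = j ≫ pullback.snd g t from (pullback.lift_snd _ _ _).symm]
    exact MorphismProperty.comp_mem _ _ _ inferInstance inferInstance
  exact RingHom.formallyUnramified_algebraMap.1 ((HasRingHomProperty.Spec_iff (P := @FormallyUnramified)).1 hq)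

/-- An affine chart of a nodal curve. -/
theorem formallyUnramified_chart {L : Type u} [Field L] [IsAlgClosed L] {X : Scheme.{u}}
    (f : X ⟶ Spec (CommRingCat.of L)) [LocallyOfFiniteType f] [QuasiSeparated f] (hf : Nodal27.Good f)
    (U : X.affineOpens) :
    FormallyUnramified (Spec.map (CommRingCat.ofHom
      (Ideal.Quotient.mk ((Fitt.sheafIdeal (Omega.sheaf f) 1).ideal U))) ≫ U.2.fromSpec ≫ f) := by
  obtain ⟨U, hU⟩ := U
  have hV : IsAffineOpen (⊤ : (Spec (CommRingCat.of L)).Opens) := isAffineOpen_top _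
  have hle : U ≤ f ⁻¹ᵁ ⊤ := le_top
  let A := Γ(Spec (CommRingCat.of L), ⊤)
  let T := Γ(X, U)
  algebraize [(f.appLE ⊤ U hle).hom]
  letI : Algebra L A := (Scheme.ΓSpecIso (CommRingCat.of L)).inv.hom.toAlgebra
  letI : Algebra L T := ((algebraMap A T).comp (algebraMap L A)).toAlgebra
  haveI : IsScalarTower L A T := IsScalarTower.of_algebraMap_eq fun _ => rfl
  haveI : Algebra.FiniteType A T := f.finiteType_appLE hV hU hle
  haveI : Algebra.FiniteType L A := Algebra.FiniteType.of_surjective (Algebra.ofId L A)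
    (ConcreteCategory.bijective_of_isIso (Scheme.ΓSpecIso (CommRingCat.of L)).inv).2
  haveI : Algebra.FiniteType L T := Algebra.FiniteType.trans (R := L) (S := A) (A := T) inferInstance inferInstance
  have hj : Spec.map (CommRingCat.ofHom (algebraMap L T)) = hU.fromSpec ≫ f := by
    rw [← IsAffineOpen.SpecMap_appLE_fromSpec f hV hU hle, IsAffineOpen.fromSpec_top, Scheme.isoSpec_Spec_inv,
      ← Spec.map_comp]
    rfl
  have hF : (Fitt.sheafIdeal (Omega.sheaf f) 1).ideal ⟨U, hU⟩ = Fitt.ideal T Ω[T⁄A] 1 := by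
    haveI : Module.Finite T Γ(Omega.sheaf f, U) := Module.Finite.equiv (Omega26.sectEquiv f hU hV hle)
    rw [Fitting26.sheafIdeal_ideal (Omega26.isQCoh f) (Omega26.isFT f)]
    exact (FittingLib.ideal_congr (Omega26.sectEquiv f hU hV hle) 1).symm
  have hA : Algebra.FormallyUnramified A (T ⧸ Fitt.ideal T Ω[T⁄A] 1) := by
    refine formallyUnramified_quotient_fitting (L := L) fun m hm hmF => ?_
    let w : Spec (CommRingCat.of T) := ⟨m, hm.isPrime⟩
    haveI : w.asIdeal.IsMaximal := hm
    have hw : IsClosed ({w} : Set (Spec (CommRingCat.of T))) :=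
      (PrimeSpectrum.isClosed_singleton_iff_isMaximal w).2 hm
    have hx : IsClosed ({hU.fromSpec w} : Set X) := Nodal27.isClosed_image hU.fromSpec f hw
    have hxU : hU.fromSpec w ∈ U := hU.range_fromSpec.le ⟨w, rfl⟩
    have hprime : hU.primeIdealOf ⟨hU.fromSpec w, hxU⟩ = w :=
      hU.fromSpec.isOpenEmbedding.injective (hU.fromSpec_primeIdealOf ⟨_, hxU⟩)
    have hns : hU.fromSpec w ∉ f.smoothLocus := by
      rw [FitSmooth14.mem_smoothLocus_iff_notMem_support f 1 _ (by exact_mod_cast hf.1 _),
        Fitting26.mem_support_iff (Omega26.isQCoh f) (Omega26.isFT f) 1 hU hxU, hprime, not_not,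
        ← FittingLib.ideal_congr (Omega26.sectEquiv f hU hV hle) 1]
      exact hmF
    have hodp : Nodal27.ODPAt f (hU.fromSpec w) := (hf.2 _ hx).resolve_left hns
    have h1 := (Nodal27.odpAt_etale_iff hU.fromSpec f hw).2 hodp
    rw [← hj] at h1
    exact (Nodal27.odpAt_spec_iff w).1 h1
  rw [← IsAffineOpen.SpecMap_appLE_fromSpec f hV hU hle, ← Category.assoc, ← Spec.map_comp]
  haveI : FormallyUnramified (Spec.map (f.appLE ⊤ U hle ≫
      CommRingCat.ofHom (Ideal.Quotient.mk ((Fitt.sheafIdeal (Omega.sheaf f) 1).ideal ⟨U, hU⟩)))) := by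
    rw [HasRingHomProperty.Spec_iff (P := @FormallyUnramified), hF]
    exact RingHom.formallyUnramified_algebraMap.2 hA
  exact MorphismProperty.comp_mem _ _ _ inferInstance inferInstance

/-- The singular locus of a nodal curve over an algebraically closed field is unramified. -/
theorem formallyUnramified_of_good {L : Type u} [Field L] [IsAlgClosed L] {X : Scheme.{u}}
    (f : X ⟶ Spec (CommRingCat.of L)) [LocallyOfFiniteType f] [QuasiSeparated f] (hf : Nodal27.Good f) :
    FormallyUnramified ((Fitt.sheafIdeal (Omega.sheaf f) 1).subschemeι ≫ f) := by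
  rw [IsZariskiLocalAtSource.iff_of_openCover (P := @FormallyUnramified)
    (Fitt.sheafIdeal (Omega.sheaf f) 1).subschemeCover.openCover]
  intro U
  have h := formallyUnramified_chart f hf U
  have e : (Fitt.sheafIdeal (Omega.sheaf f) 1).subschemeCover.f U ≫
      (Fitt.sheafIdeal (Omega.sheaf f) 1).subschemeι ≫ f = Spec.map (CommRingCat.ofHom
      (Ideal.Quotient.mk ((Fitt.sheafIdeal (Omega.sheaf f) 1).ideal U))) ≫ U.2.fromSpec ≫ f := by
    rw [← Category.assoc, Scheme.IdealSheafData.subschemeCover_map_subschemeι,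
      Scheme.IdealSheafData.glueDataObjι, IsAffineOpen.fromSpec]
    erw [Category.assoc, Category.assoc, Category.assoc]
  rw [← e] at h
  exact h

theorem formallyUnramified_of_famGood {X B : Scheme.{u}} (f : X ⟶ B) [LocallyOfFiniteType f]
    [QuasiSeparated f] (hf : Nodal27.FamGood f) :
    FormallyUnramified ((Fitt.sheafIdeal (Omega.sheaf f) 1).subschemeι ≫ f) := by
  let I := Fitt.sheafIdeal (Omega.sheaf f) 1
  refine formallyUnramified_scheme_of_geometric _ fun L _ _ t => ?_
  have h1 := formallyUnramified_of_good (pullback.snd f t) (hf L t)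
  rw [← Omega26.fitting_comap f t 1] at h1
  have big : IsPullback (pullback.snd (pullback.fst f t) I.subschemeι)
      (pullback.fst (pullback.fst f t) I.subschemeι ≫ pullback.snd f t) (I.subschemeι ≫ f) t :=
    (IsPullback.of_hasPullback (pullback.fst f t) I.subschemeι).flip.paste_vert
      (IsPullback.of_hasPullback f t)
  rw [show pullback.snd (I.subschemeι ≫ f) t = big.isoPullback.inv ≫
      pullback.fst (pullback.fst f t) I.subschemeι ≫ pullback.snd f t from
      big.isoPullback_inv_snd.symm,
    MorphismProperty.cancel_left_of_respectsIso (P := @FormallyUnramified),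
    ← Scheme.IdealSheafData.comapIso_inv_subschemeι, Category.assoc,
    MorphismProperty.cancel_left_of_respectsIso (P := @FormallyUnramified)]
  exact h1

theorem fitt_ideal_congr {R : Type u} [CommRing R] {M N : Type*} [AddCommGroup M] [AddCommGroup N]
    [Module R M] [Module R N] (e : M ≃ₗ[R] N) (r : ℕ) : Fitt.ideal R M r ≤ Fitt.ideal R N r := by
  rw [Fitt.ideal, Ideal.span_le]
  rintro _ ⟨n, x, a, hx, hrel, rfl⟩
  refine Submodule.subset_span ⟨n, e ∘ x, a, ?_, fun i hi => ?_, rfl⟩
  · rw [Set.range_comp]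
    exact (Submodule.span_image e.toLinearMap).trans (by rw [hx, Submodule.map_top, LinearEquiv.range])
  · simpa only [map_sum, map_smul, map_zero, Function.comp_apply] using congrArg e (hrel i hi)

end Groth.Agent.NodalSing14
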