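import Groth.Agent.Lib.Nodal27.Jac
import Groth.Agent.Lib.Fitting.More
import Mathlib.RingTheory.Kaehler.TensorProduct
import Mathlib.RingTheory.Unramified.Basic
import Mathlib.FieldTheory.IsAlgClosed.AlgebraicClosure

/-!
# Unramifiedness of the singular locus of a nodal curve: algebra
-/

set_option autoImplicit false
set_option linter.style.haveILetI false

universe u

open scoped TensorProduct
open MvPolynomial

noncomputable section

namespace Groth.Agent.NodalSing14

/-- A finite module with `mM = M` at every maximal ideal vanishes. -/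
theorem subsingleton_of_forall_isMaximal {R : Type*} [CommRing R] {M : Type*} [AddCommGroup M] [Module R M]
    [Module.Finite R M]
    (h : ∀ (m : Ideal R), m.IsMaximal → (⊤ : Submodule R M) ≤ m • ⊤) : Subsingleton M := by
  have hann : (⊤ : Submodule R M).annihilator = ⊤ := by
    by_contra hne
    obtain ⟨m, hm, hle⟩ := Ideal.exists_le_maximal _ hne
    obtain ⟨r, hr, hr'⟩ := Submodule.exists_sub_one_mem_and_smul_eq_zero_of_fg_of_le_smul m ⊤
      (Module.finite_def.mp ‹_›) (h m hm)
    have hrm : r ∈ m := hle (Submodule.mem_annihilator.2 hr')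
    exact hm.ne_top ((Ideal.eq_top_iff_one _).2 (by simpa using m.sub_mem hrm hr))
  refine subsingleton_of_forall_eq 0 fun x => ?_
  simpa using Submodule.mem_annihilator.1 (hann ▸ Submodule.mem_top : (1 : R) ∈ (⊤ : Submodule R M).annihilator) x Submodule.mem_top

theorem eq_zero_of_subsingleton_tensor {R T L M : Type*} [CommRing R] [CommRing T] [Field L]
    [Algebra R T] [Algebra R L] [AddCommGroup M] [Module R M] [Subsingleton (T ⊗[R] M)]
    (e : T →ₐ[R] L) (ψ : M →ₗ[R] L) : ψ = 0 := by
  refine LinearMap.ext fun x => ?_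
  let Ψ : T ⊗[R] M →ₗ[R] L := TensorProduct.lift ((LinearMap.mul R L).compl₁₂ e.toLinearMap ψ)
  have h1 : Ψ ((1 : T) ⊗ₜ x) = ψ x := by simp [Ψ]
  rw [Subsingleton.elim ((1 : T) ⊗ₜ[R] x) 0, map_zero] at h1
  exact h1.symm

theorem subsingleton_tensor_kaehler {A L R T : Type u} [CommRing A] [CommRing L] [CommRing R] [CommRing T]
    [Algebra A L] [Algebra A R] [Algebra A T] [Algebra L T] [Algebra R T] [IsScalarTower A L T]
    [IsScalarTower A R T] [Algebra.IsPushout A L R T] [Algebra.FormallyUnramified L T] :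
    Subsingleton (T ⊗[R] Ω[R⁄A]) :=
  (KaehlerDifferential.tensorKaehlerEquiv A L R T).toEquiv.subsingleton

/-- Unramifiedness at a maximal ideal from a geometric point over it. -/
theorem le_smul_top_of_geometric {A R T L : Type u} [CommRing A] [CommRing R] [CommRing T] [Algebra A R]
    (m : Ideal R) [m.IsMaximal] [Field L] [Algebra R L] [Algebra (R ⧸ m) L] [IsScalarTower R (R ⧸ m) L]
    [Algebra R T] [Subsingleton (T ⊗[R] Ω[R⁄A])]
    (e : T →+* L) (he : ∀ r, e (algebraMap R T r) = algebraMap R L r) :
    (⊤ : Submodule R Ω[R⁄A]) ≤ m • ⊤ := by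
  by_contra hne
  letI : Field (R ⧸ m) := Ideal.Quotient.field m
  let q : Submodule R Ω[R⁄A] := m • ⊤
  letI : Module (R ⧸ m) (Ω[R⁄A] ⧸ q) := Module.IsTorsionBySet.module (I := m) fun x r => by
    induction x using Submodule.Quotient.induction_on with
    | H x =>
      rw [← Submodule.Quotient.mk_smul, Submodule.Quotient.mk_eq_zero]
      exact Submodule.smul_mem_smul r.2 trivial
  haveI : IsScalarTower R (R ⧸ m) (Ω[R⁄A] ⧸ q) := ⟨fun r c x => by
    obtain ⟨c, rfl⟩ := Ideal.Quotient.mk_surjective c
    show ((r * c : R)) • x = r • (c • x)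
    exact mul_smul r c x⟩
  obtain ⟨x, -, hx⟩ := SetLike.not_le_iff_exists.1 hne
  have hx0 : (Submodule.Quotient.mk x : Ω[R⁄A] ⧸ q) ≠ 0 := fun h =>
    hx ((Submodule.Quotient.mk_eq_zero q).1 h)
  obtain ⟨φ, hφ⟩ : ∃ φ : Module.Dual (R ⧸ m) (Ω[R⁄A] ⧸ q), φ (Submodule.Quotient.mk x) ≠ 0 := by
    by_contra h
    push Not at h
    exact hx0 ((Module.forall_dual_apply_eq_zero_iff (R ⧸ m) _).1 h)
  let ψ : Ω[R⁄A] →ₗ[R] L :=
    (Algebra.linearMap (R ⧸ m) L ∘ₗ φ).restrictScalars R ∘ₗ q.mkQ
  have h1 := LinearMap.congr_fun (eq_zero_of_subsingleton_tensor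
    ({ e with commutes' := he } : T →ₐ[R] L) ψ) x
  exact hφ ((algebraMap (R ⧸ m) L).injective (h1.trans (map_zero _).symm))

/-- Unramifiedness can be tested after base change to algebraically closed fields. -/
theorem formallyUnramified_of_geometric {A R : Type u} [CommRing A] [CommRing R] [Algebra A R]
    [Algebra.FiniteType A R]
    (h : ∀ (L : Type u) [Field L] [IsAlgClosed L] [Algebra A L],
      Algebra.FormallyUnramified L (L ⊗[A] R)) :
    Algebra.FormallyUnramified A R := by
  refine ⟨subsingleton_of_forall_isMaximal (R := R) (M := Ω[R⁄A]) fun m hm => ?_⟩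
  letI : Field (R ⧸ m) := Ideal.Quotient.field m
  haveI := h (AlgebraicClosure (R ⧸ m))
  letI : Algebra R (AlgebraicClosure (R ⧸ m) ⊗[A] R) := Algebra.TensorProduct.rightAlgebra
  haveI := subsingleton_tensor_kaehler (A := A) (R := R) (L := AlgebraicClosure (R ⧸ m))
    (T := AlgebraicClosure (R ⧸ m) ⊗[A] R)
  refine le_smul_top_of_geometric m
    (Algebra.TensorProduct.lift (AlgHom.id A _)
      ((IsScalarTower.toAlgHom A (R ⧸ m) (AlgebraicClosure (R ⧸ m))).comp (Ideal.Quotient.mkₐ A m))
      fun _ _ => Commute.all _ _).toRingHom fun r => ?_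
  exact (Algebra.TensorProduct.lift_tmul _ _ _ _ _).trans (one_mul _)

/-- A quotient of a finite type algebra over an algebraically closed field whose maximal ideals
are generated, up to squares, by the ideal is unramified. -/
theorem formallyUnramified_quotient_of_le {L T : Type u} [Field L] [IsAlgClosed L] [CommRing T]
    [Algebra L T] [Algebra.FiniteType L T] (F : Ideal T)
    (h : ∀ m : Ideal T, m.IsMaximal → F ≤ m → m ≤ F ⊔ m ^ 2) :
    Algebra.FormallyUnramified L (T ⧸ F) := by
  haveI : Algebra.FiniteType L (T ⧸ F) := inferInstance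
  refine ⟨subsingleton_of_forall_isMaximal (R := T ⧸ F) (M := Ω[(T ⧸ F)⁄L]) fun m hm => ?_⟩
  have hsq : m ≤ m ^ 2 := by
    haveI := hm
    haveI : (m.comap (Ideal.Quotient.mk F)).IsMaximal :=
      Ideal.comap_isMaximal_of_surjective _ Ideal.Quotient.mk_surjective
    have h1 := h (m.comap (Ideal.Quotient.mk F)) inferInstance fun x hx => by
      rw [Ideal.mem_comap, Ideal.Quotient.eq_zero_iff_mem.2 hx]; exact zero_mem m
    intro y hy
    obtain ⟨y, rfl⟩ := Ideal.Quotient.mk_surjective y
    have h2 := Ideal.mem_map_of_mem (Ideal.Quotient.mk F) (h1 hy)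
    rwa [Ideal.map_sup, Ideal.map_quotient_self, bot_sup_eq, Ideal.map_pow,
      Ideal.map_comap_of_surjective _ Ideal.Quotient.mk_surjective] at h2
  conv_lhs => rw [← KaehlerDifferential.span_range_derivation L (T ⧸ F)]
  rw [Submodule.span_le]
  rintro _ ⟨y, rfl⟩
  haveI := hm
  letI : Field ((T ⧸ F) ⧸ m) := Ideal.Quotient.field m
  haveI : Algebra.FiniteType L ((T ⧸ F) ⧸ m) :=
    Algebra.FiniteType.of_surjective (Ideal.Quotient.mkₐ L m) (Ideal.Quotient.mkₐ_surjective L m)
  haveI : Module.Finite L ((T ⧸ F) ⧸ m) := finite_of_finite_type_of_isJacobsonRing _ _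
  obtain ⟨c, hc⟩ := (IsAlgClosed.algebraMap_bijective_of_isIntegral (k := L)).2 (Ideal.Quotient.mk m y)
  have hy : y - algebraMap L (T ⧸ F) c ∈ m := by
    rw [← Ideal.Quotient.eq, ← hc]
    rfl
  have key : ∀ z ∈ m ^ 2, KaehlerDifferential.D L (T ⧸ F) z ∈ m • (⊤ : Submodule (T ⧸ F) _) := by
    intro z hz
    rw [pow_two] at hz
    refine Submodule.mul_induction_on hz (fun a ha b hb => ?_) fun a b ha hb => ?_
    · rw [Derivation.leibniz]
      exact add_mem (Submodule.smul_mem_smul ha trivial) (Submodule.smul_mem_smul hb trivial)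
    · rw [map_add]; exact add_mem ha hb
  have h3 := key _ (hsq hy)
  rwa [map_sub, Derivation.map_algebraMap, sub_zero] at h3

theorem derivation_comp {L A T : Type u} [CommRing L] [CommRing A] [CommRing T] [Algebra L A]
    [Algebra L T] [Algebra A T] [IsScalarTower L A T] {n : ℕ}
    (π : MvPolynomial (Fin n) L →ₐ[L] T) (g : MvPolynomial (Fin n) L) :
    ∑ i, π (pderiv i g) • KaehlerDifferential.D A T (π (X i)) = KaehlerDifferential.D A T (π g) := by
  induction g using MvPolynomial.induction_on with
  | C a =>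
    rw [← MvPolynomial.algebraMap_eq, π.commutes, IsScalarTower.algebraMap_apply L A T,
      Derivation.map_algebraMap]
    simp
  | add p q hp hq => simp only [map_add, add_smul, Finset.sum_add_distrib, hp, hq]
  | mul_X p i hp =>
    rw [map_mul, Derivation.leibniz, ← hp, Finset.smul_sum]
    simp only [pderiv_mul, pderiv_X, map_add, map_mul, add_smul, Finset.sum_add_distrib]
    rw [add_comm]
    congr 1
    · rw [Finset.sum_eq_single i (fun j _ hj => by simp [Ne.symm hj]) (by simp)]
      simp
    · exact Finset.sum_congr rfl fun j _ => by rw [smul_smul, mul_comm]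

/-- The Jacobian ideal of a presentation lies in the first Fitting ideal of the differentials. -/
theorem jac_le_fitting {L A T : Type u} [Field L] [CommRing A] [CommRing T] [Algebra L A]
    [Algebra L T] [Algebra A T] [IsScalarTower L A T] {n : ℕ}
    (π : MvPolynomial (Fin n) L →ₐ[L] T) (hπ : Function.Surjective π) :
    Nodal27.jac π ≤ Fitt.ideal T Ω[T⁄A] 1 := by
  let x : Fin n → Ω[T⁄A] := fun i => KaehlerDifferential.D A T (π (X i))
  have hx : Submodule.span T (Set.range x) = ⊤ := by
    rw [eq_top_iff, ← KaehlerDifferential.span_range_derivation A T, Submodule.span_le]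
    rintro _ ⟨y, rfl⟩
    obtain ⟨g, rfl⟩ := hπ y
    rw [← derivation_comp (A := A) π g]
    exact sum_mem fun i _ => Submodule.smul_mem _ _ (Submodule.subset_span ⟨i, rfl⟩)
  rw [Nodal27.jac, Ideal.span_le]
  rintro _ ⟨g, γ, hg, rfl⟩
  cases n with
  | zero =>
    rw [FittingLib.ideal_eq_top_of_span x hx (by omega)]
    trivial
  | succ m =>
    by_cases hγ : Function.Injective γ
    swap
    · simp only [Function.Injective, not_forall] at hγ
      obtain ⟨a, b, hab, hne⟩ := hγ
      rw [Matrix.det_zero_of_column_eq hne fun i => by simp [hab], map_zero]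
      exact zero_mem _
    obtain ⟨j, hj⟩ : ∃ j, ∀ a, γ a ≠ j := by
      by_contra hc
      push Not at hc
      have := Fintype.card_le_of_surjective γ fun j => hc j
      simp at this
    let s : Fin (m + 1) → Fin (m + 1) := Fin.snoc (α := fun _ => Fin (m + 1)) γ j
    have hs : Function.Bijective s := by
      refine Finite.injective_iff_bijective.1 (Fin.snoc_injective_iff.2 ⟨hγ, ?_⟩)
      rintro ⟨a, ha⟩
      exact hj a ha
    let σ : Fin (m + 1) ≃ Fin (m + 1) := Equiv.ofBijective s hs
    let B : Matrix (Fin (m + 1)) (Fin (m + 1)) T := Matrix.of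
      (Fin.snoc (α := fun _ => Fin (m + 1) → T) (fun b i => π (pderiv (σ i) (g b)))
        (Pi.single (Fin.last m) 1))
    have hB : B.det = π (Matrix.of fun b a => pderiv (γ a) (g b)).det := by
      rw [Matrix.det_succ_row B (Fin.last m), Finset.sum_eq_single (Fin.last m)]
      · rw [AlgHom.map_det]
        simp only [B, Matrix.of_apply, Fin.snoc_last, Pi.single_eq_same, ← two_mul, pow_mul,
          neg_one_sq, one_pow, one_mul, mul_one]
        congr 1
        refine Matrix.ext fun b a => ?_
        simp [σ, s]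
      · intro b _ hb
        simp [B, hb]
      · simp
    rw [← hB]
    refine Submodule.subset_span ⟨m + 1, x ∘ σ, B, by rwa [σ.surjective.range_comp], fun i hi => ?_, rfl⟩
    induction i using Fin.lastCases with
    | last => simp at hi
    | cast b =>
      simp only [B, Matrix.of_apply, Fin.snoc_castSucc, Function.comp_apply]
      rw [σ.sum_comp (fun i => π (pderiv i (g b)) • x i)]
      refine (derivation_comp (A := A) π (g b)).trans ?_
      rw [hg, map_zero]

/-- The first Fitting ideal of the differentials of a nodal affine curve cuts out an unramified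
scheme. -/
theorem formallyUnramified_quotient_fitting {L A T : Type u} [Field L] [IsAlgClosed L] [CommRing A]
    [CommRing T] [Algebra L A] [Algebra L T] [Algebra A T] [IsScalarTower L A T]
    [Algebra.FiniteType L T]
    (h : ∀ m : Ideal T, m.IsMaximal → Fitt.ideal T Ω[T⁄A] 1 ≤ m → Nodal27.NodeData L m) :
    Algebra.FormallyUnramified A (T ⧸ Fitt.ideal T Ω[T⁄A] 1) := by
  haveI : Algebra.FormallyUnramified L (T ⧸ Fitt.ideal T Ω[T⁄A] 1) := by
    refine formallyUnramified_quotient_of_le _ fun m hm hle => ?_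
    obtain ⟨n, π, hπ⟩ :=
      (Algebra.FiniteType.iff_quotient_mvPolynomial'' (R := L) (S := T)).1 inferInstance
    have hN := h m hm hle
    choose c hc using fun i => Nodal27.exists_sub_mem hN.1 (π (X i))
    exact (Nodal27.le_jac_sup c π hπ hc hN).trans (sup_le_sup_right (jac_le_fitting π hπ) _)
  exact Algebra.FormallyUnramified.of_restrictScalars L A _

end Groth.Agent.NodalSing14
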